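import Cfsg.Agent.H387.VO.Main
import Cfsg.Agent.H620.RowClass
import Cfsg.Agent.H477.HC.NPO
import Cfsg.Agent.H72.Task106

/-!
# `[VAN-O+]` : `p`-singular vanishing elements of `PΩ⁺_{2m}(q)` (S4987, helper829)

Let `p ≥ 5` be a prime different from the characteristic `r`.

* `kill_plus` : if `p` does not divide `q - 1`, then `PΩ⁺_{2m}(q)` has a character of `p`-defect zero (among the
  Harish-Chandra induced cuspidal characters of the Levi subgroups `GL_m(q)`, `GL_{m-1}(q) × SO₂⁺(q)`);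
* `exists_two_mul`, `exists_sq` : elements of order `2 p`, or `p²` if `p²` divides the order;
* `twoVan_one` : if `p` divides `q - 1`, then the Steinberg character and elements of order divisible by `p r` do it;
* `row` : the row.
-/

set_option autoImplicit false

namespace Cfsg.Agent.H829.Van

open Cfsg Cfsg.Agent.H477.HC Cfsg.Agent.H53.HC Cfsg.Agent.H377 Cfsg.Agent.H72.AdjOrth Cfsg.Agent.H620
open Cfsg.Agent.H387.VO

/-! ### arithmetic -/

section arith

variable {q p : ℕ}

/-- `p ∣ q ^ k - 1` iff the order divides `k` -/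
theorem dvd_iff (hq : 1 ≤ q) (k : ℕ) : p ∣ q ^ k - 1 ↔ ee q p ∣ k := by
  refine ⟨ee_dvd hq, ?_⟩
  rintro ⟨j, rfl⟩
  exact (dvd_pow_ee (r := p) hq).trans (by
    rw [pow_mul]
    have := Nat.sub_dvd_pow_sub_pow (q ^ ee q p) 1 j
    rwa [one_pow] at this)

theorem ee_dvd_two_mul (d j : ℕ) : d ∣ 2 * j ↔ eta d ∣ j := by
  rw [eta]
  split_ifs with h
  · obtain ⟨e, rfl⟩ := h
    rw [show (e + e) / 2 = e by omega, ← two_mul]
    exact Nat.mul_dvd_mul_iff_left (by norm_num)
  · rw [Nat.not_even_iff_odd] at h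
    exact (Nat.Coprime.symm (Nat.coprime_two_left.2 h)).dvd_mul_left

theorem eta_le (d : ℕ) : eta d ≤ d := by
  rw [eta]
  split_ifs
  · omega
  · exact le_rfl

theorem le_two_eta (d : ℕ) : d ≤ 2 * eta d := by
  rw [eta]
  split_ifs with h
  · obtain ⟨e, rfl⟩ := h
    omega
  · omega

/-- removing a factor prime to `p` -/
theorem pow_dvd_of {p t a b : ℕ} (hp : p.Prime) (ha : ¬ p ∣ a) (h : p ^ t ∣ a * b) : p ^ t ∣ b :=
  (Nat.Coprime.pow_left t ((hp.coprime_iff_not_dvd).2 ha)).dvd_of_dvd_mul_left h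

end arith

/-! ### characters of defect zero -/

section kill

variable (F : Type) [Field F] [Finite F] {r : ℕ} [Fact r.Prime] [CharP F r] {m p t : ℕ}

/-- the part of the order prime to `r` -/
theorem pow_dvd_order (hm : 4 ≤ m) (hp : p.Prime) (hp2 : p ≠ 2) (hpr : p ≠ r)
    (h : p ^ t ∣ Nat.card (POmega F (quadFormPlus m F))) :
    p ^ t ∣ (Nat.card F ^ m - 1) * ∏ i ∈ Finset.range (m - 1), (Nat.card F ^ (2 * (i + 1)) - 1) := by
  have hd1 : p ^ t ∣ Nat.card (isometryGroup F (quadFormPlus m F)) :=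
    h.trans ((Subgroup.card_quotient_dvd_card _).trans (Subgroup.card_subgroup_dvd_card _))
  have hd2 : p ^ t ∣ Nat.card (CForm.plusF F m).iso := by
    rwa [← Nat.card_congr (isoQuad (CForm.plusF F m) (plus_hB F m)).toEquiv]
  rw [card_plusF F (by omega), mul_assoc] at hd2
  refine pow_dvd_of hp (a := 2 * Nat.card F ^ (m * (m - 1))) ?_ hd2
  intro h1
  rcases hp.dvd_mul.1 h1 with h2 | h2
  · exact hp2 ((Nat.prime_dvd_prime_iff_eq hp Nat.prime_two).1 h2)
  · exact ne_card F (p := r) hp hpr (hp.dvd_of_dvd_pow h2)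

/-- **Defect zero.** -/
theorem kill_plus (hm : 4 ≤ m) (hp : p.Prime) (hp2 : p ≠ 2) (hpr : p ≠ r) (h1 : ¬ p ∣ Nat.card F - 1) :
    Kill (POmega F (quadFormPlus m F)) p := by
  have : Fact p.Prime := ⟨hp⟩
  have hq1 : 1 ≤ Nat.card F := card_pos'
  have hrp : r.Prime := Fact.out
  have h0 := pow_dvd_order F (r := r) hm hp hp2 hpr
    (Nat.ordProj_dvd (Nat.card (POmega F (quadFormPlus m F))) p)
  set t := (Nat.card (POmega F (quadFormPlus m F))).factorization p with ht
  by_cases hA : p ∣ Nat.card F ^ m - 1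
  · have hB : ¬ p ∣ Nat.card F ^ (m - 1) - 1 := by
      intro hB
      rw [dvd_iff hq1] at hA hB
      have h2 : ee (Nat.card F) p ∣ 1 := by
        have := Nat.dvd_sub hA hB
        rwa [show m - (m - 1) = 1 by omega] at this
      apply h1
      have := (dvd_iff (p := p) hq1 1).2 h2
      rwa [pow_one] at this
    obtain ⟨e, he⟩ := plus_dvd F (p := r) (k := m - 1) (n := 1) (by omega) le_rfl
    obtain ⟨d, ⟨χ, hχ, hχ1⟩, hd2, -⟩ := plus_ch F (p := r) (m := m) (k := m - 1) (n := 1) (by omega) hm (by omega)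
    refine kill_of_dvd p hχ d hχ1 (hd2 p t hp hp2 ?_)
    have h2 : p ^ t ∣ (Nat.card F ^ (m - 1 + 1) - 1) * (Nat.card F ^ 1 + 1) *
        ∏ i ∈ Finset.Ico 1 (m - 1 + 1 - 1), (Nat.card F ^ (2 * (i + 1)) - 1) := by
      refine pow_dvd_of hp (a := Nat.card F - 1) h1 ?_
      refine h0.trans (dvd_of_eq ?_)
      rw [← Finset.prod_range_mul_prod_Ico _ (show 1 ≤ m - 1 by omega), Finset.prod_range_one,
        sq_sub, show m - 1 + 1 = m by omega, zero_add, pow_one]
      ring
    have h3 := prime_pow_dvd hp hrp hpr (h2.trans he)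
    rw [mul_comm] at h3
    exact pow_dvd_of hp hB h3
  · obtain ⟨e, he⟩ := plus_dvd_top F (p := r) (m := m) (by omega)
    obtain ⟨d, ⟨χ, hχ, hχ1⟩, hd2, -⟩ := plus_ch F (p := r) (m := m) (k := m) (n := 0) (by omega) hm (by omega)
    refine kill_of_dvd p hχ d hχ1 (hd2 p t hp hp2 ?_)
    exact prime_pow_dvd hp hrp hpr ((pow_dvd_of hp hA h0).trans he)

end kill

/-! ### elements -/

section elements

variable (F : Type) [Field F] [Finite F] {r : ℕ} [Fact r.Prime] [CharP F r] {m p : ℕ}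

include r in
theorem exists_two_mul (hm : 4 ≤ m) (hp : p.Prime) (hp2 : p ≠ 2) (hpr : p ≠ r)
    (h : eta (ee (Nat.card F) p) + 2 ≤ m) : ∃ g : POmega F (quadFormPlus m F), orderOf g = 2 * p := by
  have hpq := ne_card F (p := r) hp hpr
  exact (elt2_two (hp.odd_of_ne_two hp2) (elt_of_prime hp hpq) (eta_pos (ee_pos hp hpq)) (sg_pm _) (Or.inl rfl)
    h).plus hm

/-- if `p²` divides the order and the weight of `p` is too large, then `p²` divides the order of the torus -/
theorem sq_dvd_tn (hm : 4 ≤ m) (hp : p.Prime) (hp2 : p ≠ 2) (hpr : p ≠ r)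
    (h : m ≤ eta (ee (Nat.card F) p) + 1) (hd : p ^ 2 ∣ Nat.card (POmega F (quadFormPlus m F))) :
    p ^ 2 ∣ tn (Nat.card F) (ee (Nat.card F) p) ∧ (eta (ee (Nat.card F) p) = m - 1 ∨
      (eta (ee (Nat.card F) p) = m ∧ sg (ee (Nat.card F) p) = 1)) := by
  have hq1 : 1 ≤ Nat.card F := card_pos'
  have hpq := ne_card F (p := r) hp hpr
  set q := Nat.card F with hq
  set d := ee q p with hd'
  have hd1 : 1 ≤ d := ee_pos hp hpq
  have h0 := pow_dvd_order F (r := r) hm hp hp2 hpr hd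
  have h1 : ∀ i, i + 1 < m - 1 → ¬ p ∣ q ^ (2 * (i + 1)) - 1 := by
    intro i hi hc
    rw [dvd_iff hq1, ← hd', ee_dvd_two_mul] at hc
    have := Nat.le_of_dvd (by omega) hc
    omega
  have h2 : p ^ 2 ∣ (q ^ m - 1) * (q ^ (2 * (m - 1)) - 1) := by
    have h3 : ∏ i ∈ Finset.range (m - 1), (q ^ (2 * (i + 1)) - 1) =
        (∏ i ∈ Finset.range (m - 2), (q ^ (2 * (i + 1)) - 1)) * (q ^ (2 * (m - 1)) - 1) := by
      obtain ⟨j, rfl⟩ : ∃ j, m = j + 2 := ⟨m - 2, by omega⟩
      rw [show j + 2 - 1 = j + 1 by omega, show j + 2 - 2 = j by omega, Finset.prod_range_succ]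
    rw [h3] at h0
    refine pow_dvd_of hp (a := ∏ i ∈ Finset.range (m - 2), (q ^ (2 * (i + 1)) - 1)) ?_ (h0.trans (dvd_of_eq (by ring)))
    intro h4
    obtain ⟨i, hi, hi'⟩ := (Prime.dvd_finsetProd_iff hp.prime _).1 h4
    rw [Finset.mem_range] at hi
    exact h1 i (by omega) hi'
  by_cases hA : p ∣ q ^ m - 1
  · have hdm : d ∣ m := (dvd_iff hq1 m).1 hA
    have hdm' : d = m := by
      obtain ⟨c, hc⟩ := hdm
      have h5 := eta_le d
      have hc1 : c ≠ 0 := by rintro rfl; omega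
      by_contra hne
      have hc2 : 2 ≤ c := by
        by_contra hc3
        have : c = 1 := by omega
        rw [this, mul_one] at hc
        exact hne hc.symm
      have : d * 2 ≤ d * c := Nat.mul_le_mul_left _ hc2
      omega
    have hodd : ¬ Even d := by
      intro he
      have : eta d = d / 2 := by rw [eta, if_pos he]
      omega
    have heta : eta d = m := by rw [eta, if_neg hodd, hdm']
    have hB : ¬ p ∣ q ^ (2 * (m - 1)) - 1 := by
      intro hc
      rw [dvd_iff hq1, ← hd', ee_dvd_two_mul, heta] at hc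
      have := Nat.le_of_dvd (by omega) hc
      omega
    refine ⟨?_, Or.inr ⟨heta, by rw [sg, if_neg hodd]⟩⟩
    rw [tn, if_neg hodd, hdm']
    rw [mul_comm] at h2
    exact pow_dvd_of hp hB h2
  · have h3 := pow_dvd_of hp hA h2
    have h4 : p ∣ q ^ (2 * (m - 1)) - 1 := (dvd_pow_self p (by norm_num)).trans h3
    rw [dvd_iff hq1, ← hd', ee_dvd_two_mul] at h4
    have heta : eta d = m - 1 := by
      have := Nat.le_of_dvd (by omega) h4
      omega
    refine ⟨?_, Or.inl heta⟩
    rw [sq_sub] at h3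
    rw [tn]
    split_ifs with he
    · have h5 : d / 2 = m - 1 := by rw [eta, if_pos he] at heta; exact heta
      rw [h5]
      rw [mul_comm] at h3
      refine pow_dvd_of hp (fun hc => ?_) h3
      rw [dvd_iff hq1, ← hd'] at hc
      have := Nat.le_of_dvd (by omega) hc
      obtain ⟨j, hj⟩ := he
      omega
    · have h5 : d = m - 1 := by rw [eta, if_neg he] at heta; exact heta
      rw [h5]
      refine pow_dvd_of hp (fun hc => ?_) h3
      have h6 : p ∣ q ^ (m - 1) - 1 := (dvd_iff hq1 _).2 (by rw [← hd', h5])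
      have h7 : p ∣ 2 := by
        have := Nat.dvd_sub hc h6
        have h8 : 1 ≤ q ^ (m - 1) := Nat.one_le_pow _ _ hq1
        rwa [show q ^ (m - 1) + 1 - (q ^ (m - 1) - 1) = 2 by omega] at this
      exact hp2 ((Nat.prime_dvd_prime_iff_eq hp Nat.prime_two).1 h7)

theorem exists_sq (hm : 4 ≤ m) (hp : p.Prime) (hp2 : p ≠ 2) (hpr : p ≠ r)
    (h : m ≤ eta (ee (Nat.card F) p) + 1) (hd : p ^ 2 ∣ Nat.card (POmega F (quadFormPlus m F))) :
    ∃ g : POmega F (quadFormPlus m F), orderOf g = p ^ 2 := by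
  have hpq := ne_card F (p := r) hp hpr
  obtain ⟨h1, h2⟩ := sq_dvd_tn F (r := r) hm hp hp2 hpr h hd
  have h3 := elt_tn (F := F) (ee_pos hp hpq) h1
  have h4 : Elt F m 1 (p ^ 2) := by
    rcases h2 with h2 | ⟨h2, h2'⟩
    · exact elt_extend h3 (sg_pm _) (Or.inl rfl) (by omega)
    · rwa [h2, h2'] at h3
  exact (Elt.two (by omega) (hp.odd_of_ne_two hp2).pow h4).plus hm

/-- elements of two different orders divisible by `p r`, if `p ∣ q - 1` -/
theorem exists_pair (hm : 4 ≤ m) (hp : p.Prime) (hp5 : 5 ≤ p) (hpr : p ≠ r) (h1 : p ∣ Nat.card F - 1) :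
    ∃ x y : POmega F (quadFormPlus m F), p ∣ orderOf x ∧ p ∣ orderOf y ∧ r ∣ orderOf x ∧ r ∣ orderOf y ∧
      orderOf x ≠ orderOf y := by
  have hrp : r.Prime := Fact.out
  have hp2 : p ≠ 2 := by omega
  have hodd := hp.odd_of_ne_two hp2
  have hq1 : 1 < Nat.card F := Finite.one_lt_card
  have hpq : p ≤ Nat.card F - 1 := Nat.le_of_dvd (by omega) h1
  obtain ⟨s, hs⟩ := card_pow F r
  have e1 : Elt F 1 1 p := elt_hyp h1
  have e2 : Elt F 1 (-1) (Nat.card F + 1) := elt_ell dvd_rfl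
  have hcop : Nat.Coprime p (Nat.card F + 1) := by
    rw [hp.coprime_iff_not_dvd]
    intro hc
    have h2 : p ∣ 2 := by
      have := Nat.dvd_sub hc h1
      rwa [show Nat.card F + 1 - (Nat.card F - 1) = 2 by omega] at this
    exact hp2 ((Nat.prime_dvd_prime_iff_eq hp Nat.prime_two).1 h2)
  by_cases hr2 : r = 2
  · have hF : Odd (Nat.card F + 1) := by
      refine Even.add_one ?_
      rw [hs, hr2]
      refine (even_two).pow_of_ne_zero ?_
      rintro rfl
      rw [pow_zero] at hs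
      omega
    obtain ⟨x, hx⟩ := (elt2_two (m := m) hodd e1 le_rfl (Or.inl rfl) (Or.inl rfl) (by omega)).plus hm
    have e3 := e1.prod e2
    rw [hcop.lcm_eq_mul, one_mul] at e3
    obtain ⟨y, hy⟩ := (elt2_two (m := m) (hodd.mul hF) e3 (by omega) (Or.inr rfl) (Or.inl rfl) (by omega)).plus hm
    refine ⟨x, y, ?_, ?_, ?_, ?_, ?_⟩
    · rw [hx]; exact dvd_mul_left _ _
    · rw [hy]; exact (dvd_mul_right _ _).mul_left _
    · rw [hx, hr2]; exact dvd_mul_right _ _
    · rw [hy, hr2]; exact dvd_mul_right _ _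
    · rw [hx, hy]
      intro h
      have h2 : 2 * p < 2 * (p * (Nat.card F + 1)) := by
        have : p * 1 < p * (Nat.card F + 1) := Nat.mul_lt_mul_of_pos_left (by omega) (by omega)
        omega
      omega
  · have hro := hrp.odd_of_ne_two hr2
    have hqo : Odd (Nat.card F) := by rw [hs]; exact hro.pow
    have hM : Even (Nat.card F + 1) := hqo.add_one
    have e3 := e1.prod (Cfsg.Agent.H72.Task106.elt_char_pm (F := F) hrp (n := m - 1) (by omega) (Or.inl rfl : (1 : ℤ) = 1 ∨ _))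
    have hc : Nat.Coprime p r := (Nat.coprime_primes hp hrp).2 hpr
    rw [hc.lcm_eq_mul, one_mul, show 1 + (m - 1) = m by omega] at e3
    obtain ⟨x, hx⟩ := (Elt.two (by omega) (hodd.mul hro) e3).plus hm
    have e4 := e1.prod (Cfsg.Agent.H72.Task106.elt_char_pm (F := F) hrp (n := m - 2) (by omega)
      (Or.inr rfl : (-1 : ℤ) = 1 ∨ _))
    rw [hc.lcm_eq_mul, one_mul] at e4
    have e5 := Elt.prod_two (by omega) (hodd.mul hro) e4 e2 hM
    rw [show 1 + (m - 2) + 1 = m by omega, show (-1 : ℤ) * -1 = 1 by norm_num] at e5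
    obtain ⟨y, hy⟩ := e5.plus hm
    have hd1 : p * r ∣ orderOf y := by rw [hy]; exact Nat.dvd_lcm_left _ _
    refine ⟨x, y, ?_, ?_, ?_, ?_, ?_⟩
    · rw [hx]; exact dvd_mul_right _ _
    · exact (dvd_mul_right _ _).trans hd1
    · rw [hx]; exact dvd_mul_left _ _
    · exact (dvd_mul_left _ _).trans hd1
    · rw [hx, hy]
      intro h
      have h2 : (Nat.card F + 1) / 2 ∣ p * r := by
        rw [h]; exact Nat.dvd_lcm_right _ _
      have h3 : (Nat.card F + 1) / 2 ∣ Nat.card F + 1 := Nat.div_dvd_of_dvd hM.two_dvd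
      have h4 : Nat.Coprime ((Nat.card F + 1) / 2) r := by
        refine Nat.Coprime.coprime_dvd_left h3 ?_
        rw [Nat.coprime_comm, hrp.coprime_iff_not_dvd, hs]
        intro hc
        have hs0 : s ≠ 0 := by
          rintro rfl
          rw [pow_zero] at hs
          omega
        have := (Nat.dvd_add_right (dvd_pow_self r hs0)).1 hc
        exact hrp.one_lt.ne' (Nat.dvd_one.1 this)
      have h5 : Nat.Coprime ((Nat.card F + 1) / 2) (p * r) :=
        Nat.Coprime.mul_right (Nat.Coprime.coprime_dvd_left h3 hcop.symm) h4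
      have h6 := Nat.Coprime.eq_one_of_dvd h5 h2
      omega

end elements

/-! ### the row -/

/-- **The row of `PΩ⁺`.** -/
theorem row {r p : ℕ} [Fact p.Prime] (hr : r.Prime) {K : Type*} [Group K] [Finite K] [IsSimpleGroup K]
    (hK : IsPOmegaPlusChar r K) (hp5 : 5 ≤ p) (hpr : p ≠ r) (hpK : p ∣ Nat.card K) : Row p K := by
  have hp : p.Prime := Fact.out
  have hp2 : p ≠ 2 := by omega
  have : Fact r.Prime := ⟨hr⟩
  by_cases h2 : p ^ 2 ∣ Nat.card K
  swap
  · left
    have h3 : 1 ≤ (Nat.card K).factorization p := (hp.dvd_iff_one_le_factorization Nat.card_pos.ne').1 hpK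
    have h4 : ¬ 2 ≤ (Nat.card K).factorization p := fun h =>
      h2 ((hp.pow_dvd_iff_le_factorization Nat.card_pos.ne').2 h)
    omega
  right; right
  have hlie : IsLieTypeChar r K := by
    unfold IsLieTypeChar
    tauto
  have hst := RowClass.kill_of_lie hr hlie
  obtain ⟨F, _, _, _, m, hm, ⟨e⟩⟩ := hK
  have hst' : Kill (POmega F (quadFormPlus m F)) r := hst.mulEquiv e
  have hcard : Nat.card K = Nat.card (POmega F (quadFormPlus m F)) := Nat.card_congr e.toEquiv
  rw [hcard] at h2 hpK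
  refine TwoVan.mulEquiv ?_ e.symm
  by_cases h1 : p ∣ Nat.card F - 1
  · obtain ⟨x, y, hx, hy, hx', hy', hne⟩ := exists_pair F (r := r) hm hp hp5 hpr h1
    exact TwoVan.of_order hx hy (hst'.vz hx') (hst'.vz hy') hne
  · have hk := kill_plus F (r := r) hm hp hp2 hpr h1
    obtain ⟨x, hx⟩ := exists_prime_orderOf_dvd_card' p hpK
    by_cases h3 : eta (ee (Nat.card F) p) + 2 ≤ m
    · obtain ⟨y, hy⟩ := exists_two_mul F (r := r) hm hp hp2 hpr h3
      refine TwoVan.of_order (x := x) (y := y) (by rw [hx]) (by rw [hy]; exact dvd_mul_left _ _)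
        (hk.vz (by rw [hx])) (hk.vz (by rw [hy]; exact dvd_mul_left _ _)) ?_
      rw [hx, hy]
      omega
    · obtain ⟨y, hy⟩ := exists_sq F (r := r) hm hp hp2 hpr (by omega) h2
      have hd : p ∣ orderOf y := by rw [hy]; exact dvd_pow_self p (by norm_num)
      refine TwoVan.of_order (x := x) (y := y) (by rw [hx]) hd (hk.vz (by rw [hx])) (hk.vz hd) ?_
      rw [hx, hy]
      intro h
      have : p * 1 < p * p := Nat.mul_lt_mul_of_pos_left (by omega) (by omega)
      rw [← sq] at this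
      omega

end Cfsg.Agent.H829.Van
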